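import Cfsg.Agent.VanishClass.Basic
import Cfsg.Agent.Solvable.FixedPointFree
import Cfsg.Agent.LocalStructure.PClosed

/-!
# At most one class of vanishing `p`-singular elements
-/

set_option autoImplicit false
set_option linter.unusedSectionVars false
set_option linter.style.haveILetI false

namespace CfsgLib.VanishClass

open CfsgLib.Characters CfsgLib.OddOrderChar
open scoped commutatorElement

universe u

/-- All vanishing `p`-singular elements are conjugate. -/
def OneClass (p : ℕ) (G : Type u) [Group G] : Prop :=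
  ∀ g h : G, Van g → p ∣ orderOf g → Van h → p ∣ orderOf h → IsConj g h

/-- There is no vanishing `p`-singular element. -/
def NoClass (p : ℕ) (G : Type u) [Group G] : Prop := ∀ g : G, p ∣ orderOf g → ¬ Van g

variable {G : Type u} [Group G] [Finite G] {p : ℕ}

theorem NoClass.oneClass (h : NoClass p G) : OneClass p G := fun g _ hg hp _ _ =>
  absurd hg (h g hp)

theorem OneClass.quotient (h : OneClass p G) (N : Subgroup G) [N.Normal] : OneClass p (G ⧸ N) := by
  intro a c ha hpa hc hpc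
  obtain ⟨g, rfl⟩ := QuotientGroup.mk'_surjective N a
  obtain ⟨k, rfl⟩ := QuotientGroup.mk'_surjective N c
  exact (QuotientGroup.mk' N).map_isConj
    (h g k (ha.lift _ (QuotientGroup.mk'_surjective N)) (sing_lift _ hpa)
      (hc.lift _ (QuotientGroup.mk'_surjective N)) (sing_lift _ hpc))

theorem NoClass.quotient (h : NoClass p G) (N : Subgroup G) [N.Normal] : NoClass p (G ⧸ N) := by
  intro a hpa ha
  obtain ⟨g, rfl⟩ := QuotientGroup.mk'_surjective N a
  exact h g (sing_lift _ hpa) (ha.lift _ (QuotientGroup.mk'_surjective N))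

/-- The key induction. -/
theorem aux [hp : Fact p.Prime] : ∀ (c : ℕ) (G : Type u) [Group G] [Finite G], Nat.card G = c →
    Group.IsSolvable G → Cfsg.pCore p G = ⊥ →
    (NoClass p G → ¬ p ∣ Nat.card G) ∧ (OneClass p G → ¬ p ^ 2 ∣ Nat.card G) := by
  intro c
  induction c using Nat.strong_induction_on with
  | _ c ih =>
  intro G _ _ hc hsolv hcore
  classical
  haveI := Fintype.ofFinite G
  rcases subsingleton_or_nontrivial G with hG | hG
  · have h1 : Nat.card G = 1 := Nat.card_eq_one_iff_unique.2 ⟨hG, ⟨1⟩⟩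
    rw [h1]
    exact ⟨fun _ h => hp.out.ne_one (Nat.dvd_one.1 h), fun _ h => hp.out.ne_one
      (Nat.dvd_one.1 ((dvd_pow_self p two_ne_zero).trans h))⟩
  set F := Cfsg.fittingSubgroup G
  haveI hFn : F.Normal := Solvable.fittingSubgroup_normal
  haveI : Group.IsNilpotent F := Solvable.fittingSubgroup_isNilpotent
  have hFne : F ≠ ⊥ := Solvable.fittingSubgroup_ne_bot
  have hCF : Subgroup.centralizer (F : Set G) ≤ F := Solvable.centralizer_fittingSubgroup_le
  have hFp : ¬ p ∣ Nat.card F := by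
    intro hd
    obtain ⟨P⟩ : Nonempty (Sylow p F) := inferInstance
    have hPn : (P : Subgroup F).Normal := inferInstance
    haveI : (P : Subgroup F).Characteristic := P.characteristic_of_normal hPn
    have h1 : (P : Subgroup F).map F.subtype ≤ Cfsg.pCore p G :=
      Solvable.le_pCore (P.isPGroup'.map F.subtype)
    rw [hcore, le_bot_iff, Subgroup.map_eq_bot_iff_of_injective _ F.subtype_injective] at h1
    exact P.ne_bot_of_dvd_card hd h1
  set π := QuotientGroup.mk' F with hπ
  have hπs := QuotientGroup.mk'_surjective F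
  have hlt : Nat.card (G ⧸ F) < c := by
    rw [← hc, Subgroup.card_eq_card_quotient_mul_card_subgroup F]
    exact lt_mul_of_one_lt_right Nat.card_pos ((Subgroup.one_lt_card_iff_ne_bot F).2 hFne)
  have hdown : ∀ i, p ^ i ∣ Nat.card G → p ^ i ∣ Nat.card (G ⧸ F) := fun i hi => by
    rw [Subgroup.card_eq_card_quotient_mul_card_subgroup F] at hi
    exact (Nat.Coprime.pow_left i (hp.out.coprime_iff_not_dvd.2 hFp)).dvd_of_dvd_mul_right hi
  haveI : Group.IsSolvable (G ⧸ F) := Group.isSolvable_of_surjective hπs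
  by_cases hQ : Cfsg.pCore p (G ⧸ F) = ⊥
  · obtain ⟨h1, h2⟩ := ih _ hlt (G ⧸ F) rfl inferInstance hQ
    exact ⟨fun h hd => h1 (h.quotient F) (by simpa using hdown 1 (by simpa using hd)),
      fun h hd => h2 (h.quotient F) (hdown 2 hd)⟩
  set Q := Cfsg.pCore p (G ⧸ F) with hQdef
  haveI hQn : Q.Normal := Solvable.pCore_normal p
  have hQp : IsPGroup p Q := Solvable.isPGroup_pCore p
  haveI := hQp.isNilpotent
  -- abelian normal `p`-subgroups of the quotient
  have hsing : ∀ g : G, π g ∈ Q → π g ≠ 1 → p ∣ orderOf g := fun g hg hg1 => by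
    refine sing_lift π ?_
    obtain ⟨j, hj⟩ := IsPGroup.iff_orderOf.1 hQp ⟨π g, hg⟩
    rw [Subgroup.orderOf_mk] at hj
    rcases j with _ | j
    · exact absurd (orderOf_eq_one_iff.1 (by rw [hj, pow_zero])) hg1
    · rw [hj]; exact dvd_pow_self p (Nat.succ_ne_zero j)
  have key : ∀ R : Subgroup (G ⧸ F), R.Normal → R ≤ Q → (∀ a ∈ R, ∀ b ∈ R, a * b = b * a) →
      ∀ g : G, π g ∈ R → π g ≠ 1 → p ∣ orderOf g ∧ Van g := by
    intro R hR hRQ hRc g hg hg1
    refine ⟨hsing g (hRQ hg) hg1, ?_⟩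
    haveI : (R.comap π).Normal := hR.comap π
    obtain ⟨χ, hχ, h0⟩ := regular_vanishing (p := p) F (R.comap π)
      (fun x hx => by
        show π x ∈ R
        rw [hπ, QuotientGroup.mk'_apply, (QuotientGroup.eq_one_iff x).2 hx]
        exact one_mem R)
      hFp
      (Subgroup.commutator_le.2 fun a ha b hb => by
        rw [← QuotientGroup.eq_one_iff]
        show π ⁅a, b⁆ = 1
        rw [map_commutatorElement, commutatorElement_eq_one_iff_mul_comm]
        exact hRc _ ha _ hb)
      (fun q hq => by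
        obtain ⟨k, hk⟩ := hQp ⟨π q, hRQ hq⟩
        refine ⟨k, (QuotientGroup.eq_one_iff _).1 ?_⟩
        simpa [hπ] using congrArg Subtype.val hk)
      (inf_le_right.trans hCF)
    exact ⟨χ, hχ, h0 g hg fun hgF => hg1 ((QuotientGroup.eq_one_iff g).2 hgF)⟩
  -- the centre of `Q`
  set Z := (Subgroup.center Q).map Q.subtype with hZdef
  haveI hZn : Z.Normal := inferInstance
  have hZQ : Z ≤ Q := Subgroup.map_subtype_le _
  have hZc : ∀ a ∈ Q, ∀ z ∈ Z, a * z = z * a := by
    rintro a ha _ ⟨z, hz, rfl⟩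
    exact congrArg Subtype.val (Subgroup.mem_center_iff.1 hz ⟨a, ha⟩)
  haveI : Nontrivial Q := (Subgroup.nontrivial_iff_ne_bot Q).2 hQ
  have hZne : Z ≠ ⊥ := by
    haveI := hQp.center_nontrivial
    rw [hZdef, Ne, Subgroup.map_eq_bot_iff_of_injective _ Q.subtype_injective]
    exact (Subgroup.nontrivial_iff_ne_bot _).1 inferInstance
  obtain ⟨z₀, hz₀, hz₀1⟩ : ∃ z, z ∈ Z ∧ z ≠ (1 : G ⧸ F) := by
    by_contra hno
    push Not at hno
    exact hZne ((Subgroup.eq_bot_iff_forall Z).2 hno)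
  obtain ⟨g₀, rfl⟩ := hπs z₀
  have hg₀ := key Z inferInstance hZQ (fun a ha b hb => hZc a (hZQ ha) b hb) g₀ hz₀ hz₀1
  refine ⟨fun h => absurd hg₀.2 (h g₀ hg₀.1), fun h => ?_⟩
  -- abelian normal `p`-subgroups have order `p`
  have hcard : ∀ R : Subgroup (G ⧸ F), R.Normal → R ≤ Q → R ≠ ⊥ →
      (∀ a ∈ R, ∀ b ∈ R, a * b = b * a) → Nat.card R = p := by
    intro R hR hRQ hRne hRc
    haveI : (R.comap π).Normal := hR.comap π
    set Rh := R.comap π with hRh
    obtain ⟨P⟩ : Nonempty (Sylow p Rh) := inferInstance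
    set P' := (P : Subgroup Rh).map Rh.subtype with hP'
    have hP'R : P' ≤ Rh := Subgroup.map_subtype_le _
    have hP'p : IsPGroup p P' := P.isPGroup'.map _
    have hPF : ∀ x ∈ P', x ∈ F → x = 1 := fun x hx hxF => by
      obtain ⟨j, hj⟩ := IsPGroup.iff_orderOf.1 hP'p ⟨x, hx⟩
      rw [Subgroup.orderOf_mk] at hj
      have h1 : orderOf x ∣ Nat.card F := by
        rw [← Subgroup.orderOf_mk x hxF]
        exact orderOf_dvd_natCard _
      rw [← orderOf_eq_one_iff, hj]
      rw [hj] at h1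
      exact Nat.eq_one_of_dvd_coprimes (Nat.Coprime.pow_left j (hp.out.coprime_iff_not_dvd.2 hFp))
        dvd_rfl h1
    have hcomm : ∀ a ∈ P', ∀ b ∈ P', a * b = b * a := fun a ha b hb => by
      refine commutatorElement_eq_one_iff_mul_comm.1 (hPF _ ?_ ((QuotientGroup.eq_one_iff _).1 ?_))
      · rw [commutatorElement_def]
        exact mul_mem (mul_mem (mul_mem ha hb) (inv_mem ha)) (inv_mem hb)
      · show π ⁅a, b⁆ = 1
        rw [map_commutatorElement, commutatorElement_eq_one_iff_mul_comm]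
        exact hRc _ (hP'R ha) _ (hP'R hb)
    haveI : IsMulCommutative P' := ⟨⟨fun a b => Subtype.ext (hcomm a a.2 b b.2)⟩⟩
    have hfpf : ∀ x ∈ P', x ≠ 1 → F ⊓ Subgroup.centralizer {x} = ⊥ := by
      intro x hx hx1
      refine (Subgroup.eq_bot_iff_forall _).2 fun f hf => ?_
      by_contra hf1
      have hxπ : π x ≠ 1 := fun e => hx1 (hPF x hx ((QuotientGroup.eq_one_iff x).1 e))
      have hxf : π (x * f) = π x := by
        rw [map_mul, show π f = 1 from (QuotientGroup.eq_one_iff f).2 hf.1, mul_one]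
      have h1 := key R hR hRQ hRc x (hP'R hx) hxπ
      have h2 := key R hR hRQ hRc (x * f) (by rw [hxf]; exact hP'R hx) (by rwa [hxf])
      obtain ⟨y, hy⟩ := isConj_iff.1 (h x (x * f) h1.2 h1.1 h2.2 h2.1)
      have ho : orderOf x = orderOf (x * f) := by
        rw [← hy, ← MulAut.conj_apply, MulEquiv.orderOf_eq]
      have hcm : Commute x f := (Subgroup.mem_centralizer_singleton_iff.1 hf.2).symm
      have hcop : (orderOf x).Coprime (orderOf f) := by
        obtain ⟨j, hj⟩ := IsPGroup.iff_orderOf.1 hP'p ⟨x, hx⟩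
        rw [Subgroup.orderOf_mk] at hj
        rw [hj]
        refine Nat.Coprime.pow_left j (hp.out.coprime_iff_not_dvd.2 fun hd => hFp (hd.trans ?_))
        rw [← Subgroup.orderOf_mk f hf.1]
        exact orderOf_dvd_natCard _
      rw [hcm.orderOf_mul_eq_mul_orderOf_of_coprime hcop] at ho
      exact hf1 (orderOf_eq_one_iff.1 ((Nat.mul_eq_left (orderOf_pos x).ne').1 ho.symm))
    haveI : IsCyclic P' := Solvable.isCyclic_of_fpf_comm hFne hfpf le_rfl
    -- the exponent
    obtain ⟨r, hr⟩ : ∃ r : R, orderOf r = p := by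
      refine exists_prime_orderOf_dvd_card' p ?_
      obtain ⟨j, hj⟩ := IsPGroup.iff_card.1 (hQp.to_le hRQ)
      rcases j with _ | j
      · exact absurd (Subgroup.eq_bot_of_card_eq R (by rw [hj, pow_zero])) hRne
      · rw [hj]; exact dvd_pow_self p (Nat.succ_ne_zero j)
    have hexp : ∀ x ∈ P', x ^ p = 1 := by
      intro x hx
      by_cases hx1 : π x = 1
      · rw [hPF x hx ((QuotientGroup.eq_one_iff x).1 hx1), one_pow]
      obtain ⟨y, hy⟩ := hπs (r : G ⧸ F)
      have hy1 : π y ≠ 1 := fun e => by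
        rw [show r = 1 from Subtype.ext (hy.symm.trans e), orderOf_one] at hr
        exact hp.out.ne_one hr.symm
      have h1 := key R hR hRQ hRc x (hP'R hx) hx1
      have h2 := key R hR hRQ hRc y (hy ▸ r.2) hy1
      obtain ⟨w, hw⟩ := isConj_iff.1 (π.map_isConj (h x y h1.2 h1.1 h2.2 h2.1))
      refine hPF _ (pow_mem hx p) ((QuotientGroup.eq_one_iff _).1 ?_)
      show π (x ^ p) = 1
      rw [map_pow, ← orderOf_dvd_iff_pow_eq_one]
      rw [← MulEquiv.orderOf_eq (MulAut.conj w) (π x), MulAut.conj_apply, hw, hy,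
        Subgroup.orderOf_coe, hr]
    -- orders
    obtain ⟨gen, hgen⟩ := IsCyclic.exists_generator (α := P')
    have hPle : Nat.card P' ≤ p := by
      rw [← orderOf_eq_card_of_forall_mem_zpowers hgen]
      exact Nat.le_of_dvd hp.out.pos
        (orderOf_dvd_of_pow_eq_one (Subtype.ext (by simpa using hexp gen gen.2)))
    have hRcard : Nat.card R ∣ Nat.card P' := by
      obtain ⟨j, hj⟩ := IsPGroup.iff_card.1 (hQp.to_le hRQ)
      have h1 : Nat.card R ∣ Nat.card Rh :=
        Subgroup.card_dvd_of_surjective (π.subgroupComap R)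
          (MonoidHom.subgroupComap_surjective_of_surjective π R hπs)
      rw [hj, ← Subgroup.card_mul_index (P : Subgroup Rh)] at h1
      rw [hj, hP', Subgroup.card_map_of_injective Rh.subtype_injective]
      exact (Nat.Coprime.pow_left j (hp.out.coprime_iff_not_dvd.2 P.not_dvd_index)).dvd_of_dvd_mul_right h1
    refine le_antisymm ((Nat.le_of_dvd Nat.card_pos hRcard).trans hPle) ?_
    have h2 := orderOf_dvd_natCard r
    rw [hr] at h2
    exact Nat.le_of_dvd Nat.card_pos h2
  have hZp : Nat.card Z = p := hcard Z inferInstance hZQ hZne fun a ha b hb => hZc a (hZQ ha) b hb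
  -- `Q` is abelian
  have hQab : ∀ a ∈ Q, ∀ b ∈ Q, a * b = b * a := by
    by_contra hno
    set πZ := QuotientGroup.mk' Z with hπZ
    haveI : (Q.map πZ).Normal := hQn.map πZ (QuotientGroup.mk'_surjective Z)
    set U := Q ⊓ (Subgroup.centralizer ((Q.map πZ : Subgroup ((G ⧸ F) ⧸ Z)) : Set ((G ⧸ F) ⧸ Z))).comap πZ
      with hUdef
    haveI hUn : U.Normal := by rw [hUdef]; infer_instance
    have hUQ : U ≤ Q := inf_le_left
    have hZU : Z ≤ U := fun z hz => ⟨hZQ hz, by
      refine Subgroup.mem_comap.2 ?_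
      rw [hπZ, QuotientGroup.mk'_apply, (QuotientGroup.eq_one_iff z).2 hz]
      exact one_mem _⟩
    have hUc : ∀ a ∈ U, ∀ b ∈ Q, ⁅a, b⁆ ∈ Z := fun a ha b hb => by
      rw [← QuotientGroup.eq_one_iff]
      show πZ ⁅a, b⁆ = 1
      rw [map_commutatorElement, commutatorElement_eq_one_iff_mul_comm]
      exact (Subgroup.mem_centralizer_iff.1 ha.2 _ (Subgroup.mem_map_of_mem πZ hb)).symm
    -- `U` is strictly larger than `Z`
    obtain ⟨u, huU, huZ⟩ : ∃ u ∈ U, u ∉ Z := by
      have hQZne : Q.map πZ ≠ ⊥ := by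
        rw [Ne, Subgroup.map_eq_bot_iff, hπZ, QuotientGroup.ker_mk']
        exact fun hle => hno fun a ha b hb => hZc a ha b (hle hb)
      haveI : Nontrivial (Q.map πZ) := (Subgroup.nontrivial_iff_ne_bot _).2 hQZne
      haveI := (hQp.map πZ).center_nontrivial
      obtain ⟨w, hw⟩ := exists_ne (1 : Subgroup.center (Q.map πZ))
      obtain ⟨q, hq, hqw⟩ := (w : Q.map πZ).2
      refine ⟨q, ⟨hq, Subgroup.mem_centralizer_iff.2 fun t ht => ?_⟩, fun hqZ => hw ?_⟩
      · rw [hqw]
        exact congrArg Subtype.val (Subgroup.mem_center_iff.1 w.2 ⟨t, ht⟩)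
      · refine Subtype.ext (Subtype.ext ?_)
        show ((w : Q.map πZ) : (G ⧸ F) ⧸ Z) = 1
        rw [← hqw, hπZ, QuotientGroup.mk'_apply, (QuotientGroup.eq_one_iff q).2 hqZ]
    haveI := Fintype.ofFinite U
    have hUp : IsPGroup p U := hQp.to_le hUQ
    haveI := hUp.isNilpotent
    have hUna : commutator U ≠ ⊥ := by
      intro e
      have hUab : ∀ a ∈ U, ∀ b ∈ U, a * b = b * a := fun a ha b hb => by
        have hmem : ⁅(⟨a, ha⟩ : U), (⟨b, hb⟩ : U)⁆ ∈ commutator U :=
          Subgroup.commutator_mem_commutator (Subgroup.mem_top _) (Subgroup.mem_top _)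
        rw [e, Subgroup.mem_bot, commutatorElement_eq_one_iff_mul_comm] at hmem
        exact congrArg Subtype.val hmem
      have h1 := hcard U hUn hUQ (fun e' => hZne (le_bot_iff.1 (e' ▸ hZU))) hUab
      exact huZ (Subgroup.eq_of_le_of_card_ge hZU (by rw [h1, hZp]) ▸ huU)
    set CU := (Subgroup.center U).map U.subtype with hCU
    haveI hCUn : CU.Normal := inferInstance
    have hCUQ : CU ≤ Q := (Subgroup.map_subtype_le _).trans hUQ
    have hCUc : ∀ a ∈ CU, ∀ b ∈ CU, a * b = b * a := by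
      rintro _ ⟨a, ha, rfl⟩ _ ⟨b, hb, rfl⟩
      exact congrArg Subtype.val (Subgroup.mem_center_iff.1 hb a)
    haveI : Nontrivial U := (Subgroup.nontrivial_iff_ne_bot U).2 fun e =>
      hZne (le_bot_iff.1 (e ▸ hZU))
    haveI := hUp.center_nontrivial
    have hCUne : CU ≠ ⊥ := by
      rw [hCU, Ne, Subgroup.map_eq_bot_iff_of_injective _ U.subtype_injective]
      exact (Subgroup.nontrivial_iff_ne_bot _).1 inferInstance
    have hCUp : Nat.card (Subgroup.center U) = p := by
      rw [← hcard CU hCUn hCUQ hCUne hCUc, hCU,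
        Subgroup.card_map_of_injective U.subtype_injective]
    obtain ⟨θ, hθ, hθ0⟩ := center_vanishing hUp hUna (by
      rw [commutator_def, Subgroup.commutator_le]
      intro a _ b _
      rw [Subgroup.mem_center_iff]
      intro t
      refine Subtype.ext (hZc t (hUQ t.2) _ ?_)
      exact hUc a a.2 b (hUQ b.2)) hCUp
    haveI := Fintype.ofFinite (G ⧸ F)
    obtain ⟨χ, hχ, hχ0⟩ := exists_vanishing U CU hθ fun n hn => hθ0 n fun hc' =>
      hn ⟨n, hc', rfl⟩
    -- a witness in `U` outside the centre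
    obtain ⟨v, hv, hvC⟩ : ∃ v ∈ U, v ∉ CU := by
      by_contra hall
      push Not at hall
      refine hUna (le_bot_iff.1 ?_)
      rw [commutator_def, Subgroup.commutator_le]
      exact fun a _ b _ => Subgroup.mem_bot.2 (commutatorElement_eq_one_iff_mul_comm.2
        (Subtype.ext (hCUc a (hall a a.2) b (hall b b.2))))
    obtain ⟨r, hr, hr1⟩ : ∃ r, r ∈ CU ∧ r ≠ (1 : G ⧸ F) := by
      by_contra hno'
      push Not at hno'
      exact hCUne ((Subgroup.eq_bot_iff_forall CU).2 hno')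
    obtain ⟨gv, rfl⟩ := hπs v
    obtain ⟨gr, rfl⟩ := hπs r
    have h1 := key CU hCUn hCUQ hCUc gr hr hr1
    have h2 : Van gv := Van.lift π hπs ⟨χ, hχ, hχ0 _ hv hvC⟩
    have hsv := hsing gv (hUQ hv) fun e => hvC (by rw [e]; exact one_mem CU)
    obtain ⟨w, hw⟩ := isConj_iff.1 (π.map_isConj (h gr gv h1.2 h1.1 h2 hsv))
    exact hvC (hw ▸ hCUn.conj_mem _ hr w)
  have hQcard : Nat.card Q = p := hcard Q hQn le_rfl hQ hQab
  -- above `Q` nothing vanishes
  have hno : NoClass p ((G ⧸ F) ⧸ Q) := by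
    intro a hpa ha
    obtain ⟨k, rfl⟩ := QuotientGroup.mk'_surjective Q a
    obtain ⟨g, rfl⟩ := hπs k
    have h2 : Van g := (ha.lift _ (QuotientGroup.mk'_surjective Q)).lift π hπs
    have h3 : p ∣ orderOf g := sing_lift π (sing_lift _ hpa)
    obtain ⟨w, hw⟩ := isConj_iff.1 (π.map_isConj (h g₀ g hg₀.2 hg₀.1 h2 h3))
    have hgQ : π g ∈ Q := hw ▸ hQn.conj_mem _ (hZQ hz₀) w
    rw [QuotientGroup.mk'_apply, (QuotientGroup.eq_one_iff _).2 hgQ, orderOf_one] at hpa
    exact hp.out.ne_one (Nat.dvd_one.1 hpa)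
  have hcore' : Cfsg.pCore p ((G ⧸ F) ⧸ Q) = ⊥ := by
    rw [LocalStructure.pCore_quotient hQp, ← hQdef, Subgroup.map_eq_bot_iff, QuotientGroup.ker_mk']
  have hlt2 : Nat.card ((G ⧸ F) ⧸ Q) < c :=
    lt_of_le_of_lt (Nat.le_of_dvd Nat.card_pos (Subgroup.card_quotient_dvd_card Q)) hlt
  have h4 := (ih _ hlt2 ((G ⧸ F) ⧸ Q) rfl inferInstance hcore').1 hno
  intro hd
  have h5 := hdown 2 hd
  rw [Subgroup.card_eq_card_quotient_mul_card_subgroup Q, hQcard, sq] at h5
  exact h4 (Nat.dvd_of_mul_dvd_mul_right hp.out.pos h5)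

/-- At most one class of vanishing `p`-singular elements bounds the Sylow subgroup. -/
theorem card_sylow_le [hp : Fact p.Prime] (hsolv : Group.IsSolvable G) (h : OneClass p G)
    (P : Sylow p G) : Nat.card (P : Subgroup G) ≤ p * Nat.card (Cfsg.pCore p G) := by
  haveI : (Cfsg.pCore p G).Normal := Solvable.pCore_normal p
  haveI := hsolv
  set O := Cfsg.pCore p G with hO
  haveI : Group.IsSolvable (G ⧸ O) := Group.isSolvable_of_surjective (QuotientGroup.mk'_surjective O)
  have hcore : Cfsg.pCore p (G ⧸ O) = ⊥ := by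
    rw [LocalStructure.pCore_quotient (Solvable.isPGroup_pCore p), Subgroup.map_eq_bot_iff,
      QuotientGroup.ker_mk']
  have h2 := (aux (p := p) _ (G ⧸ O) rfl inferInstance hcore).2 (h.quotient O)
  obtain ⟨a, ha⟩ := IsPGroup.iff_card.1 P.isPGroup'
  obtain ⟨b, hb⟩ := IsPGroup.iff_card.1 (Solvable.isPGroup_pCore (G := G) p)
  rw [ha, hb, ← pow_succ']
  refine Nat.pow_le_pow_right hp.out.pos ?_
  by_contra hlt
  refine h2 ?_
  have h3 : p ^ (b + 2) ∣ Nat.card G :=
    (pow_dvd_pow p (by omega)).trans (ha ▸ Subgroup.card_subgroup_dvd_card _)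
  rw [Subgroup.card_eq_card_quotient_mul_card_subgroup O, hb, pow_add, mul_comm] at h3
  exact Nat.dvd_of_mul_dvd_mul_right (pow_pos hp.out.pos b) h3

end CfsgLib.VanishClass
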