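import Cfsg.Agent.TwoDegrees73.Basic
import Cfsg.Agent.IsaacsPassman.Central
import Cfsg.Agent.FrattiniTheory.Basic
import Cfsg.Agent.Coprime.Action
import Cfsg.Agent.Coprime.Generation
import Cfsg.Agent.Solvable.Fitting
import Cfsg.Agent.Solvable.Nilpotent

/-!
# Characters vanishing on a layer of a normal series
-/

set_option autoImplicit false
set_option linter.unusedSectionVars false
set_option linter.style.haveILetI false

namespace CfsgLib.VanishClass

open CfsgLib.Characters CfsgLib.OddOrderChar
open scoped commutatorElement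

universe u

variable {G : Type u} [Group G]

/-- An element at which some irreducible character vanishes. -/
def Van (g : G) : Prop := ∃ χ : G → ℂ, Cfsg.IsIrrCharacter G χ ∧ χ g = 0

theorem Van.lift {H : Type u} [Group H] [Finite H] [Finite G] (f : G →* H)
    (hf : Function.Surjective f) {g : G} (h : Van (f g)) : Van g := by
  haveI := Fintype.ofFinite G
  haveI := Fintype.ofFinite H
  obtain ⟨χ, hχ, h0⟩ := h
  exact ⟨fun x => χ (f x), isIrr_comp f hf hχ, h0⟩

theorem sing_lift {H : Type u} [Group H] (f : G →* H) {p : ℕ} {g : G}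
    (h : p ∣ orderOf (f g)) : p ∣ orderOf g := h.trans (orderOf_map_dvd f g)

variable [Fintype G]

/-- A character over a character that vanishes on a layer vanishes on that layer. -/
theorem exists_vanishing (N : Subgroup G) [hN : N.Normal] [Fintype N] (M : Subgroup G) [hM : M.Normal]
    {θ : N → ℂ} (hθ : Cfsg.IsIrrCharacter N θ) (h0 : ∀ n : N, (n : G) ∉ M → θ n = 0) :
    ∃ χ : G → ℂ, Cfsg.IsIrrCharacter G χ ∧ ∀ g ∈ N, g ∉ M → χ g = 0 := by
  classical
  obtain ⟨χ, hχ, hne⟩ := CharactersDeep.Clifford.exists_over N hθ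
  refine ⟨χ, hχ, fun g hg hgM => ?_⟩
  have h := congrFun (clifford_restrict N hχ hθ hne) ⟨g, hg⟩
  simp only [Pi.smul_apply, Finset.sum_apply] at h
  rw [h, Finset.sum_eq_zero, smul_zero]
  intro ψ hψ
  obtain ⟨x, rfl⟩ := (mem_conjOrbit N).1 hψ
  refine h0 _ fun hm => hgM ?_
  simpa [mul_assoc] using hM.conj_mem _ hm x⁻¹

/-- An abelian `p`-group acting faithfully on a nilpotent `p'`-group `F` has a character vanishing
outside `F`. -/
theorem regular_vanishing {p : ℕ} [hp : Fact p.Prime] (F Q : Subgroup G) [hFn : F.Normal]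
    [Q.Normal] (hFQ : F ≤ Q) (hFp : ¬ p ∣ Nat.card F) [Group.IsNilpotent F]
    (hQc : ⁅Q, Q⁆ ≤ F) (hQp : ∀ q ∈ Q, ∃ k : ℕ, q ^ p ^ k ∈ F)
    (hC : Q ⊓ Subgroup.centralizer (F : Set G) ≤ F) :
    ∃ χ : G → ℂ, Cfsg.IsIrrCharacter G χ ∧ ∀ g ∈ Q, g ∉ F → χ g = 0 := by
  classical
  haveI := Fintype.ofFinite Q
  set N := F.subgroupOf Q with hNdef
  haveI : N.Normal := Subgroup.normal_subgroupOf
  haveI := Fintype.ofFinite N
  -- characters of `F` with the action of `Q / F`
  haveI : Finite (Abelianization N) := Finite.of_surjective _ (QuotientGroup.mk'_surjective (commutator N))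
  haveI : NeZero (Monoid.exponent (Abelianization N) : ℂ) :=
    ⟨Nat.cast_ne_zero.2 Monoid.exponent_ne_zero_of_finite⟩
  have hAcard : Nat.card (N →* ℂˣ) = Nat.card (Abelianization N) := by
    rw [Nat.card_congr (Abelianization.lift (G := N) (A := ℂˣ)),
      CommGroup.card_monoidHom_of_hasEnoughRootsOfUnity]
  haveI : Finite (N →* ℂˣ) := Nat.finite_of_card_ne_zero (by
    rw [hAcard]; exact Nat.card_pos.ne')
  letI : CommGroup (Q ⧸ N) := { (inferInstance : Group (Q ⧸ N)) with
    mul_comm := fun x y => by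
      induction x using QuotientGroup.induction_on with | _ x =>
      induction y using QuotientGroup.induction_on with | _ y =>
      rw [← QuotientGroup.mk_mul, ← QuotientGroup.mk_mul, QuotientGroup.eq, hNdef,
        Subgroup.mem_subgroupOf]
      have hc : ⁅(y : G)⁻¹, (x : G)⁻¹⁆ ∈ F :=
        hQc (Subgroup.commutator_mem_commutator (inv_mem y.2) (inv_mem x.2))
      rw [commutatorElement_def] at hc
      simpa [mul_assoc] using hc }
  let cj : Q → (N →* N) := fun g => (MulAut.conjNormal g⁻¹).toMonoidHom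
  have hcj : ∀ g (n : N), ((cj g n : N) : Q) = g⁻¹ * n * g := fun g n => by
    simp [cj, MulAut.conjNormal_apply]
  have hcjmul : ∀ g g', (cj g').comp (cj g) = cj (g * g') := fun g g' => by
    refine MonoidHom.ext fun n => Subtype.ext ?_
    rw [MonoidHom.comp_apply, hcj, hcj, hcj]
    group
  have hcj1 : cj 1 = MonoidHom.id N := MonoidHom.ext fun n => Subtype.ext (by rw [hcj]; simp)
  let act : Q → MulAut (N →* ℂˣ) := fun g =>
    { toFun := fun lam => lam.comp (cj g)
      invFun := fun lam => lam.comp (cj g⁻¹)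
      left_inv := fun lam => by
        show (lam.comp (cj g)).comp (cj g⁻¹) = lam
        rw [MonoidHom.comp_assoc, hcjmul, inv_mul_cancel, hcj1, MonoidHom.comp_id]
      right_inv := fun lam => by
        show (lam.comp (cj g⁻¹)).comp (cj g) = lam
        rw [MonoidHom.comp_assoc, hcjmul, mul_inv_cancel, hcj1, MonoidHom.comp_id]
      map_mul' := fun _ _ => rfl }
  let φ₀ : Q →* MulAut (N →* ℂˣ) :=
    { toFun := act
      map_one' := MulEquiv.ext fun lam => by
        show lam.comp (cj 1) = lam
        rw [hcj1, MonoidHom.comp_id]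
      map_mul' := fun g g' => MulEquiv.ext fun lam => by
        show lam.comp (cj (g * g')) = (lam.comp (cj g')).comp (cj g)
        rw [MonoidHom.comp_assoc, hcjmul] }
  have hker : N ≤ φ₀.ker := fun x hx => MonoidHom.mem_ker.mpr <| MulEquiv.ext fun lam =>
    MonoidHom.ext fun n => by
      show lam (cj x n) = lam n
      have h1 : cj x n = (⟨x, hx⟩ : N)⁻¹ * n * ⟨x, hx⟩ := Subtype.ext (by rw [hcj]; rfl)
      rw [h1, map_mul, map_mul, mul_comm (lam _⁻¹), mul_assoc, ← map_mul, inv_mul_cancel, map_one,
        mul_one]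
  let φ := QuotientGroup.lift N φ₀ hker
  have hfix : ∀ (q : Q) (lam : N →* ℂˣ), φ (q : Q ⧸ N) lam = lam.comp (cj q) := fun q lam => rfl
  have hXp : IsPGroup p (Q ⧸ N) := fun x => by
    induction x using QuotientGroup.induction_on with | _ x =>
    obtain ⟨k, hk⟩ := hQp x x.2
    exact ⟨k, by rw [← QuotientGroup.mk_pow, QuotientGroup.eq_one_iff, hNdef,
      Subgroup.mem_subgroupOf]; simpa using hk⟩
  have hNcard : Nat.card N = Nat.card F := Nat.card_congr (Subgroup.subgroupOfEquivOfLe hFQ).toEquiv
  have hcop : (Nat.card (Q ⧸ N)).Coprime (Nat.card (N →* ℂˣ)) := by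
    obtain ⟨k, hk⟩ := IsPGroup.iff_card.1 hXp
    rw [hk, hAcard]
    refine Nat.Coprime.pow_left k (hp.out.coprime_iff_not_dvd.2 fun h => hFp (hNcard ▸ h.trans ?_))
    exact Subgroup.card_dvd_of_surjective Abelianization.of (QuotientGroup.mk'_surjective (commutator N))
  obtain ⟨lam, hlam⟩ := TwoDegrees73.exists_regular φ hcop (fun l x y hx => by
    rwa [mul_comm y x, mul_assoc, mul_inv_cancel, mul_one])
  -- everything fixing all characters lies in `F`
  have hfaith : ∀ q : Q, (∀ mu : N →* ℂˣ, mu.comp (cj q) = mu) → q ∈ N := by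
    intro q hq
    obtain ⟨k, hk⟩ := hQp q q.2
    -- the `p`-part
    obtain ⟨a, b, hb, hab⟩ := Nat.exists_eq_pow_mul_and_not_dvd (orderOf_pos q).ne' p hp.out.ne_one
    have hmem : q ^ b ∈ N := by
      set x : G := ((q ^ b : Q) : G) with hx
      have hxp : IsPGroup p (Subgroup.zpowers x) := by
        refine IsPGroup.of_card (n := a) ?_
        rw [Nat.card_zpowers, hx, Subgroup.orderOf_coe, orderOf_pow' q (by
          rintro rfl; exact hb (dvd_zero p)), hab, Nat.gcd_mul_left_left,
          Nat.mul_div_cancel _ (Nat.pos_of_ne_zero (by rintro rfl; exact hb (dvd_zero p)))]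
      have hc : ∀ n ∈ F, (⁅n, x⁆ : G) ∈ (frattini F).map F.subtype := by
        intro n hn
        let n' : N := ⟨⟨n, hFQ hn⟩, hn⟩
        have hqb : ∀ mu : N →* ℂˣ, mu.comp (cj (q ^ b)) = mu := fun mu => by
          have h1 : φ (q : Q ⧸ N) mu = mu := hq mu
          have h2 : ∀ i : ℕ, φ ((q : Q ⧸ N) ^ i) mu = mu := fun i => by
            induction i with
            | zero => rw [pow_zero, map_one]; rfl
            | succ i ih => rw [pow_succ, map_mul, MulAut.mul_apply, h1, ih]
          have h3 := h2 b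
          rwa [← QuotientGroup.mk_pow] at h3
        have h4 : cj (q ^ b)⁻¹ n'⁻¹ * n' ∈ commutator N := by
          rw [← Abelianization.ker_of, MonoidHom.mem_ker]
          refine TwoDegrees73.eq_of_forall_hom fun mu => ?_
          rw [map_one, map_mul, map_mul]
          have h5 := DFunLike.congr_fun (hqb (mu.comp Abelianization.of)) (cj (q ^ b)⁻¹ n'⁻¹)
          rw [MonoidHom.comp_apply, ← MonoidHom.comp_apply (cj (q ^ b)), hcjmul, inv_mul_cancel,
            hcj1, MonoidHom.id_apply, MonoidHom.comp_apply, MonoidHom.comp_apply] at h5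
          rw [← h5, ← map_mul, ← map_mul, inv_mul_cancel, map_one, map_one]
        let e : N →* F := (Subgroup.subgroupOfEquivOfLe hFQ).toMonoidHom
        have h6 : e (cj (q ^ b)⁻¹ n'⁻¹ * n') ∈ commutator F := by
          have := Subgroup.mem_map_of_mem e h4
          rw [commutator_def, Subgroup.map_commutator] at this
          exact Subgroup.commutator_mono le_top le_top this
        have h7 : ((e (cj (q ^ b)⁻¹ n'⁻¹ * n') : F) : G) = x * n⁻¹ * x⁻¹ * n := by
          show (((cj (q ^ b)⁻¹ n'⁻¹ * n' : N) : Q) : G) = _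
          rw [Subgroup.coe_mul, hcj]
          simp [n', hx]
        have h8 : x * n⁻¹ * x⁻¹ * n ∈ (frattini F).map F.subtype :=
          ⟨_, FrattiniTheory.commutator_le_frattini_of_nilpotent h6, h7⟩
        have hΦn : ((frattini F).map F.subtype).Normal := inferInstance
        have h9 := hΦn.conj_mem _ h8 n
        rwa [commutatorElement_def,
          show n * (x * n⁻¹ * x⁻¹ * n) * n⁻¹ = n * x * n⁻¹ * x⁻¹ by group] at *
      have hcopx : (Nat.card (Subgroup.zpowers x)).Coprime (Nat.card (frattini F)) := by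
        obtain ⟨i, hi⟩ := IsPGroup.iff_card.1 hxp
        rw [hi]
        exact Nat.Coprime.pow_left i (hp.out.coprime_iff_not_dvd.2 fun h =>
          hFp (h.trans (Subgroup.card_subgroup_dvd_card _)))
      have hle : ⁅F, Subgroup.zpowers x⁆ ≤ (frattini F).map F.subtype := by
        haveI : ((frattini F).map F.subtype).Normal := inferInstance
        rw [Subgroup.commutator_le]
        intro n hn y hy
        obtain ⟨i, rfl⟩ := Subgroup.mem_zpowers_iff.1 hy
        have hxc : (QuotientGroup.mk' ((frattini F).map F.subtype) x) *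
            QuotientGroup.mk' ((frattini F).map F.subtype) n =
            QuotientGroup.mk' ((frattini F).map F.subtype) n *
            QuotientGroup.mk' ((frattini F).map F.subtype) x := by
          rw [eq_comm, ← commutatorElement_eq_one_iff_mul_comm, ← map_commutatorElement,
            QuotientGroup.mk'_apply, QuotientGroup.eq_one_iff]
          exact hc n hn
        rw [← QuotientGroup.eq_one_iff, ← QuotientGroup.mk'_apply, map_commutatorElement,
          commutatorElement_eq_one_iff_mul_comm, map_zpow]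
        exact ((Commute.zpow_left hxc i).eq).symm
      have hcent := Coprime.le_centralizer_of_commutator_le_frattini
        (Subgroup.le_normalizer_of_normal (H := F)) hcopx hle
      rw [hNdef, Subgroup.mem_subgroupOf]
      exact hC ⟨(q ^ b).2, hcent (Subgroup.mem_zpowers x)⟩
    -- `b` is prime to `p`
    rw [← QuotientGroup.eq_one_iff] at hmem ⊢
    rw [QuotientGroup.mk_pow] at hmem
    have h1 : orderOf ((q : Q ⧸ N)) ∣ b := orderOf_dvd_of_pow_eq_one hmem
    obtain ⟨i, hi⟩ := IsPGroup.iff_orderOf.1 hXp (q : Q ⧸ N)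
    rw [← orderOf_eq_one_iff, hi]
    refine Nat.eq_one_of_dvd_coprimes (Nat.Coprime.pow_left i (hp.out.coprime_iff_not_dvd.2 hb))
      dvd_rfl (hi ▸ h1)
  -- induce
  have hθ : Cfsg.IsIrrCharacter Q (Cfsg.indFun N fun n => (lam n : ℂ)) := by
    refine DegreeGraph.isIrr_indFun_of_stabilizer N (isIrr_linChar lam) fun q hq e => hq ?_
    refine inv_inv q ▸ inv_mem (hfaith q⁻¹ fun mu => ?_)
    have h1 : φ ((q⁻¹ : Q) : Q ⧸ N) lam = lam := by
      rw [hfix]
      refine MonoidHom.ext fun n => Units.ext ?_
      have h2 := congrFun e n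
      refine Eq.trans ?_ h2
      exact congrArg (fun z => (lam z : ℂ)) (Subtype.ext (by rw [hcj]; simp))
    exact (hfix q⁻¹ mu).symm.trans (hlam _ h1 mu)
  refine exists_vanishing Q F hθ fun q hq => ?_
  exact indFun_eq_zero_of_forall N _ q fun x hx => hq (by
    rw [hNdef, Subgroup.mem_subgroupOf] at hx
    simpa [mul_assoc] using hFn.conj_mem _ hx (x : G))

/-- A non-abelian `p`-group of class two with centre of prime order has a character vanishing
outside its centre. -/
theorem center_vanishing {p : ℕ} [hp : Fact p.Prime] (hG : IsPGroup p G)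
    (hna : commutator G ≠ ⊥) (hc : commutator G ≤ Subgroup.center G)
    (hZ : Nat.card (Subgroup.center G) = p) :
    ∃ θ : G → ℂ, Cfsg.IsIrrCharacter G θ ∧ ∀ g, g ∉ Subgroup.center G → θ g = 0 := by
  classical
  haveI := hG.isNilpotent
  set π := QuotientGroup.mk' (⊥ : Subgroup G) with hπ
  have hinj : Function.Injective π := by
    rw [← MonoidHom.ker_eq_bot_iff, hπ, QuotientGroup.ker_mk']
  have hsurj := QuotientGroup.mk'_surjective (⊥ : Subgroup G)
  have hmap : commutator (G ⧸ (⊥ : Subgroup G)) = (commutator G).map π := by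
    rw [commutator_def, commutator_def, Subgroup.map_commutator,
      Subgroup.map_top_of_surjective _ hsurj]
  have hcen : ∀ g, π g ∈ Subgroup.center (G ⧸ (⊥ : Subgroup G)) ↔ g ∈ Subgroup.center G := by
    intro g
    rw [Subgroup.mem_center_iff, Subgroup.mem_center_iff]
    refine ⟨fun h x => hinj (by rw [map_mul, map_mul, h]), fun h y => ?_⟩
    obtain ⟨x, rfl⟩ := hsurj y
    rw [← map_mul, ← map_mul, h]
  obtain ⟨ψ, f, hψ, -, -, hvan, -, -⟩ := IsaacsPassman.central_data (⊥ : Subgroup G)
    (by rwa [hmap, ne_eq, Subgroup.map_eq_bot_iff_of_injective _ hinj])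
    (fun M hM hMne => by
      rw [hmap, Subgroup.map_le_iff_le_comap]
      refine hc.trans ?_
      have hne : M.comap π ≠ ⊥ := fun e => hMne (by
        rw [← Subgroup.map_comap_eq_self_of_surjective hsurj M, e, Subgroup.map_bot])
      haveI : (M.comap π).Normal := hM.comap π
      have h1 : M.comap π ⊓ Subgroup.center G ≠ ⊥ := Solvable.inf_center_ne_bot hne
      have h2 : Nat.card ↥(M.comap π ⊓ Subgroup.center G) = p := by
        rcases (Nat.dvd_prime hp.out).1 (hZ ▸ Subgroup.card_dvd_of_le
          (inf_le_right : M.comap π ⊓ Subgroup.center G ≤ _)) with e | e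
        · exact absurd (Subgroup.eq_bot_of_card_eq _ e) h1
        · exact e
      rw [← Subgroup.eq_of_le_of_card_ge (inf_le_right : M.comap π ⊓ Subgroup.center G ≤ _)
        (by rw [h2, hZ])]
      exact inf_le_left)
    (by
      rw [hmap]
      rintro _ ⟨g, hg, rfl⟩
      exact (hcen g).2 (hc hg))
  exact ⟨fun g => ψ (π g), isIrr_comp π hsurj hψ, fun g hg => hvan _ fun h => hg ((hcen g).1 h)⟩

end CfsgLib.VanishClass
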